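import Mathlib

/-!
Geometric sums `1 + x + ⋯ + x ^ (m - 1)` for `x ≡ 1 (mod p)`, `p` an odd prime.
-/

set_option autoImplicit false

namespace Cfsg.Agent.MetaOdd

open Finset

/-- The geometric sum with `m` terms. -/
def geom (x : ℤ) (m : ℕ) : ℤ := ∑ s ∈ range m, x ^ s

variable {p : ℕ} [hp : Fact p.Prime]

theorem geom_succ (x : ℤ) (m : ℕ) : geom x (m + 1) = x * geom x m + 1 := geom_sum_succ

theorem geom_add (x : ℤ) (m k : ℕ) : geom x (m + k) = geom x m + x ^ m * geom x k := by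
  simp only [geom, sum_range_add, mul_sum, pow_add]

theorem geom_mul (x : ℤ) (m : ℕ) : geom x (p * m) = geom x p * geom (x ^ p) m := by
  induction m with
  | zero => simp [geom]
  | succ m ih =>
    rw [Nat.mul_succ, geom_add, ih, pow_mul, geom, geom, geom, sum_range_succ]
    ring

theorem geom_modEq {x : ℤ} (hx : (p : ℤ) ∣ x - 1) (m : ℕ) : (p : ℤ) ∣ geom x m - m := by
  rw [← ZMod.intCast_zmod_eq_zero_iff_dvd] at hx ⊢
  push_cast at hx ⊢
  rw [sub_eq_zero] at hx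
  simp [geom, hx]

theorem pow_sub_one_dvd {x : ℤ} (hx : (p : ℤ) ∣ x - 1) : (p : ℤ) ∣ x ^ p - 1 :=
  hx.trans (sub_one_dvd_pow_sub_one x p)

theorem dvd_geom_diff (hp2 : p ≠ 2) {x y : ℤ} (hx : (p : ℤ) ∣ x - 1) (hy : (p : ℤ) ∣ y - 1) :
    (p : ℤ) * (x - y) ∣ geom x p - geom y p := by
  have h : geom x p - geom y p = (∑ s ∈ range p, ∑ t ∈ range s, x ^ t * y ^ (s - 1 - t)) * (x - y) := by
    rw [sum_mul]
    simp only [geom_sum₂_mul, geom, sum_sub_distrib]
  rw [h]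
  refine mul_dvd_mul_right ?_ _
  rw [← ZMod.intCast_zmod_eq_zero_iff_dvd]
  rw [← ZMod.intCast_zmod_eq_zero_iff_dvd] at hx hy
  push_cast at hx hy ⊢
  rw [sub_eq_zero] at hx hy
  simp only [hx, hy, one_pow, mul_one, sum_const, card_range, nsmul_eq_mul, mul_one]
  rw [← Nat.cast_sum, sum_range_id, ZMod.natCast_eq_zero_iff]
  obtain ⟨q, rfl⟩ := hp.out.odd_of_ne_two hp2
  exact ⟨q, by rw [show 2 * q + 1 - 1 = q * 2 by omega, ← mul_assoc, Nat.mul_div_cancel _ two_pos]⟩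

theorem geom_p (hp2 : p ≠ 2) {x : ℤ} (hx : (p : ℤ) ∣ x - 1) :
    ∃ e : ℤ, geom x p = p * (1 + p * e) := by
  obtain ⟨e, he⟩ := dvd_geom_diff hp2 hx (y := 1) (by simp)
  obtain ⟨q, hq⟩ := hx
  refine ⟨q * e, ?_⟩
  rw [hq, sub_eq_iff_eq_add] at he
  rw [he]
  simp [geom]
  ring

/-- The `p`-part of a geometric sum is the `p`-part of its number of terms. -/
theorem dvd_geom_iff (hp2 : p ≠ 2) : ∀ (n : ℕ) {x : ℤ}, (p : ℤ) ∣ x - 1 → ∀ m : ℕ,
    ((p : ℤ) ^ n ∣ geom x m ↔ p ^ n ∣ m) := by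
  intro n
  induction n with
  | zero => simp
  | succ n ih =>
    intro x hx m
    have hiff : (p : ℤ) ∣ geom x m ↔ p ∣ m := by
      rw [dvd_iff_dvd_of_dvd_sub (geom_modEq hx m), Int.natCast_dvd_natCast]
    by_cases hm : p ∣ m
    · obtain ⟨m', rfl⟩ := hm
      obtain ⟨e, he⟩ := geom_p hp2 hx
      rw [geom_mul, he, pow_succ', pow_succ', mul_assoc,
        mul_dvd_mul_iff_left (by exact_mod_cast hp.out.ne_zero),
        Nat.mul_dvd_mul_iff_left hp.out.pos]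
      have hco0 : IsCoprime (p : ℤ) (1 + p * e) := ⟨-e, 1, by ring⟩
      have hco : IsCoprime ((p : ℤ) ^ n) (1 + p * e) := hco0.pow_left
      exact ⟨fun h => (ih (pow_sub_one_dvd hx) m').1 (hco.dvd_of_dvd_mul_left h),
        fun h => ((ih (pow_sub_one_dvd hx) m').2 h).mul_left _⟩
    · constructor
      · intro h
        exact absurd (hiff.1 ((dvd_pow_self _ n.succ_ne_zero).trans h)) hm
      · intro h
        exact absurd ((dvd_pow_self _ n.succ_ne_zero).trans h) hm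

/-- Changing the base of a geometric sum of `p ^ γ` terms. -/
theorem geom_sub_dvd (hp2 : p ≠ 2) : ∀ (γ : ℕ) (e : ℕ) {x y : ℤ}, (p : ℤ) ∣ x - 1 → (p : ℤ) ∣ y - 1 →
    (p : ℤ) ^ e ∣ x - y → (p : ℤ) ^ (γ + e) ∣ geom x (p ^ γ) - geom y (p ^ γ) := by
  intro γ
  induction γ with
  | zero => intros; simp [geom]
  | succ γ ih =>
    intro e x y hx hy he
    rw [pow_succ', geom_mul, geom_mul]
    have h1 : (p : ℤ) ^ (e + 1) ∣ geom x p - geom y p := by
      rw [pow_succ']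
      exact (mul_dvd_mul_left _ he).trans (dvd_geom_diff hp2 hx hy)
    have h2 : (p : ℤ) ^ (e + 1) ∣ x ^ p - y ^ p := by
      have h := geom_sum₂_mul x y p
      rw [← h, pow_succ']
      refine mul_dvd_mul ?_ he
      rw [← ZMod.intCast_zmod_eq_zero_iff_dvd] at hx hy ⊢
      push_cast at hx hy ⊢
      rw [sub_eq_zero] at hx hy
      simp [hx, hy]
    have h3 : (p : ℤ) ^ γ ∣ geom (x ^ p) (p ^ γ) := (dvd_geom_iff hp2 γ (pow_sub_one_dvd hx) _).2 dvd_rfl
    have h4 : (p : ℤ) ∣ geom y p := by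
      obtain ⟨e', he'⟩ := geom_p hp2 hy
      exact he' ▸ dvd_mul_right _ _
    have h5 := ih (e + 1) (pow_sub_one_dvd hx) (pow_sub_one_dvd hy) h2
    have key : geom x p * geom (x ^ p) (p ^ γ) - geom y p * geom (y ^ p) (p ^ γ) =
        (geom x p - geom y p) * geom (x ^ p) (p ^ γ) +
          geom y p * (geom (x ^ p) (p ^ γ) - geom (y ^ p) (p ^ γ)) := by ring
    rw [key]
    refine dvd_add ?_ ?_
    · rw [show γ + 1 + e = e + 1 + γ by omega, pow_add]
      exact mul_dvd_mul h1 h3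
    · rw [show γ + 1 + e = γ + (e + 1) by omega]
      exact h5.mul_left _

end Cfsg.Agent.MetaOdd
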