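import Mathlib

/-!
Subgroups of `(ℤ / p ^ n) ^ 2` and their orthogonals for the determinant form.
-/

set_option autoImplicit false
set_option linter.style.haveILetI false

namespace Cfsg.Agent.MetaOdd

variable {p n : ℕ} [hp : Fact p.Prime]

local notation "R" => ZMod (p ^ n)

/-- The alternating form on the plane. -/
def det (u v : R × R) : R := u.1 * v.2 - u.2 * v.1

theorem det_self (u : R × R) : det u u = 0 := by simp [det, mul_comm]

theorem det_swap (u v : R × R) : det v u = - det u v := by simp only [det]; ring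

theorem det_add_left (u v w : R × R) : det (u + v) w = det u w + det v w := by
  simp only [det, Prod.fst_add, Prod.snd_add]; ring

theorem det_add_right (u v w : R × R) : det u (v + w) = det u v + det u w := by
  simp only [det, Prod.fst_add, Prod.snd_add]; ring

theorem det_smul_left (t : R) (u v : R × R) : det (t • u) v = t * det u v := by
  simp only [det, Prod.smul_fst, Prod.smul_snd, smul_eq_mul]; ring

/-- The orthogonal of a set. -/
def perp (X : AddSubgroup (R × R)) : AddSubgroup (R × R) where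
  carrier := {v | ∀ x ∈ X, det x v = 0}
  zero_mem' := fun x _ => by simp [det]
  add_mem' := fun {a b} ha hb x hx => by rw [det_add_right, ha x hx, hb x hx, add_zero]
  neg_mem' := fun {a} ha x hx => by
    have := ha x hx
    simp only [det, Prod.fst_neg, Prod.snd_neg] at this ⊢
    linear_combination -this

theorem mem_perp {X : AddSubgroup (R × R)} {v : R × R} : v ∈ perp X ↔ ∀ x ∈ X, det x v = 0 := Iff.rfl

theorem smul_mem' (X : AddSubgroup (R × R)) (t : R) {x : R × R} (hx : x ∈ X) : t • x ∈ X :=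
  ZMod.smul_mem hx t

theorem le_perp_comm (X Y : AddSubgroup (R × R)) : X ≤ perp Y ↔ Y ≤ perp X :=
  ⟨fun h y hy x hx => by rw [det_swap, h hx y hy, neg_zero],
    fun h x hx y hy => by rw [det_swap, h hy x hx, neg_zero]⟩

theorem natCast_dvd_natCast_iff {w : ℕ} (hw : w ≤ n) (a : ℕ) :
    (((p ^ w : ℕ) : R) ∣ (a : R)) ↔ p ^ w ∣ a := by
  constructor
  · rintro ⟨q, hq⟩
    have h := congrArg (ZMod.castHom (pow_dvd_pow p hw) (ZMod (p ^ w))) hq
    rw [map_mul, map_natCast, map_natCast, ZMod.natCast_self, zero_mul] at h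
    exact (ZMod.natCast_eq_zero_iff _ _).1 h
  · rintro ⟨q, rfl⟩
    exact ⟨q, by push_cast; ring⟩

theorem card_zmultiples {v : ℕ} (hv : v ≤ n) :
    Nat.card (AddSubgroup.zmultiples ((p ^ v : ℕ) : R)) = p ^ (n - v) := by
  rw [Nat.card_zmultiples, ZMod.addOrderOf_coe _ (pow_ne_zero _ hp.out.ne_zero),
    Nat.gcd_eq_right (pow_dvd_pow p hv), Nat.pow_div hv hp.out.pos]

theorem mem_zmultiples_iff_dvd (a x : R) : x ∈ AddSubgroup.zmultiples a ↔ a ∣ x := by
  constructor
  · rintro ⟨k, rfl⟩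
    exact ⟨(k : R), by simp [zsmul_eq_mul, mul_comm]⟩
  · rintro ⟨q, rfl⟩
    rw [mul_comm, ← smul_eq_mul]
    exact ZMod.smul_mem (AddSubgroup.mem_zmultiples a) q

theorem eq_mul_unit (x : R) : ∃ t ≤ n, ∃ u : Rˣ, x = ((p ^ t : ℕ) : R) * u := by
  haveI : NeZero (p ^ n) := ⟨pow_ne_zero _ hp.out.ne_zero⟩
  rcases eq_or_ne x 0 with rfl | hx
  · exact ⟨n, le_rfl, 1, by rw [ZMod.natCast_self, zero_mul]⟩
  have hv : x.val ≠ 0 := fun h => hx ((ZMod.val_eq_zero x).1 h)
  obtain ⟨t, m, hm, he⟩ := Nat.exists_eq_pow_mul_and_not_dvd hv p hp.out.ne_one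
  have ht : t ≤ n := by
    by_contra hlt
    have h1 : p ^ t ≤ x.val := he ▸ Nat.le_mul_of_pos_right _ (by
      rcases Nat.eq_zero_or_pos m with h | h
      · exact absurd (h ▸ dvd_zero p) hm
      · exact h)
    have h2 := ZMod.val_lt x
    have h3 : p ^ n ≤ p ^ t := Nat.pow_le_pow_right hp.out.pos (by omega)
    omega
  have hmu : IsUnit (m : R) := (ZMod.isUnit_iff_coprime m (p ^ n)).2
    (Nat.Coprime.pow_right n ((hp.out.coprime_iff_not_dvd.2 hm).symm))
  refine ⟨t, ht, hmu.unit, ?_⟩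
  rw [IsUnit.unit_spec, ← Nat.cast_mul, ← he, ZMod.natCast_zmod_val]

theorem exists_form (S : AddSubgroup R) : ∃ v ≤ n, S = AddSubgroup.zmultiples ((p ^ v : ℕ) : R) := by
  classical
  have hn : ((p ^ n : ℕ) : R) ∈ S := by rw [ZMod.natCast_self]; exact zero_mem S
  have hex : ∃ v, ((p ^ v : ℕ) : R) ∈ S := ⟨n, hn⟩
  refine ⟨Nat.find hex, Nat.find_le hn, le_antisymm (fun x hx => ?_)
    (AddSubgroup.zmultiples_le_of_mem (Nat.find_spec hex))⟩
  obtain ⟨t, -, u, rfl⟩ := eq_mul_unit x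
  have h1 : ((p ^ t : ℕ) : R) ∈ S := by
    have := ZMod.smul_mem hx ((u⁻¹ : Rˣ) : R)
    rwa [smul_eq_mul, mul_left_comm, Units.inv_mul, mul_one] at this
  rw [mem_zmultiples_iff_dvd]
  refine Dvd.dvd.mul_right ?_ _
  obtain ⟨d, hd⟩ := pow_dvd_pow p (Nat.find_le (h := hex) h1)
  exact ⟨d, by rw [hd, Nat.cast_mul]⟩

theorem card_torsion {w : ℕ} (hw : w ≤ n) :
    Nat.card (AddMonoidHom.mulLeft ((p ^ w : ℕ) : R)).ker = p ^ w := by
  haveI : NeZero (p ^ n) := ⟨pow_ne_zero _ hp.out.ne_zero⟩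
  set f := AddMonoidHom.mulLeft ((p ^ w : ℕ) : R)
  have h := f.ker.card_mul_index
  rw [AddSubgroup.index_ker, show f.range = AddSubgroup.zmultiples ((p ^ w : ℕ) : R) by
    ext x; rw [mem_zmultiples_iff_dvd]; exact ⟨fun ⟨q, hq⟩ => ⟨q, hq.symm⟩, fun ⟨q, hq⟩ => ⟨q, hq.symm⟩⟩,
    card_zmultiples hw, Nat.card_zmod] at h
  refine Nat.eq_of_mul_eq_mul_right (pow_pos hp.out.pos (n - w)) ?_
  rw [h, ← pow_add, Nat.add_sub_cancel' hw]

theorem card_eq (X : AddSubgroup (R × R)) :
    Nat.card X = Nat.card (X.map (AddMonoidHom.fst R R)) * Nat.card (X.comap (AddMonoidHom.inr R R)) := by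
  haveI : NeZero (p ^ n) := ⟨pow_ne_zero _ hp.out.ne_zero⟩
  set f := (AddMonoidHom.fst R R).comp X.subtype
  rw [← f.ker.card_mul_index, AddSubgroup.index_ker, mul_comm]
  congr 1
  · rw [AddMonoidHom.range_comp, AddSubgroup.range_subtype]
  · refine Nat.card_congr
      { toFun := fun x => ⟨x.1.1.2, ?_⟩
        invFun := fun y => ⟨⟨(0, y.1), y.2⟩, rfl⟩
        left_inv := fun x => Subtype.ext (Subtype.ext (Prod.ext (Eq.symm x.2) rfl))
        right_inv := fun y => rfl }
    have h0 : x.1.1.1 = 0 := x.2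
    show ((0 : R), x.1.1.2) ∈ X
    rw [← h0]
    exact x.1.2

/-- The shape of a subgroup of the plane. -/
theorem exists_shape (X : AddSubgroup (R × R)) : ∃ v w : ℕ, v ≤ n ∧ w ≤ n ∧
    Nat.card X = p ^ (n - v) * p ^ (n - w) ∧ Nat.card (perp X) = p ^ w * p ^ v ∧
    (X ≤ perp X ↔ n ≤ v + w) ∧
    (v + w < n → ∀ x : R × R, ((p ^ (n - 1) : ℕ) : R) • x ∈ X) := by
  haveI : NeZero (p ^ n) := ⟨pow_ne_zero _ hp.out.ne_zero⟩
  obtain ⟨v, hv, hA⟩ := exists_form (X.map (AddMonoidHom.fst R R))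
  obtain ⟨w, hw, hB⟩ := exists_form (X.comap (AddMonoidHom.inr R R))
  set P : ℕ → R := fun t => ((p ^ t : ℕ) : R) with hPdef
  obtain ⟨g, hgX, hg1⟩ : ∃ g ∈ X, g.1 = P v := by
    have : P v ∈ X.map (AddMonoidHom.fst R R) := by rw [hA]; exact AddSubgroup.mem_zmultiples _
    obtain ⟨g, hg, h⟩ := this
    exact ⟨g, hg, h⟩
  have h0w : ((0 : R), P w) ∈ X := by
    have : P w ∈ X.comap (AddMonoidHom.inr R R) := by rw [hB]; exact AddSubgroup.mem_zmultiples _
    exact this
  have hsnd : ∀ y : R, ((0 : R), y) ∈ X ↔ P w ∣ y := fun y => by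
    rw [← mem_zmultiples_iff_dvd, ← hB]; rfl
  have hdec : ∀ x ∈ X, ∃ s t : R, x = s • g + t • ((0 : R), P w) := by
    intro x hx
    have : x.1 ∈ X.map (AddMonoidHom.fst R R) := ⟨x, hx, rfl⟩
    rw [hA, mem_zmultiples_iff_dvd] at this
    obtain ⟨s, hs⟩ := this
    have hmem : x - s • g ∈ X := sub_mem hx (smul_mem' X s hgX)
    have h1 : x - s • g = ((0 : R), x.2 - s * g.2) := by
      refine Prod.ext ?_ rfl
      show x.1 - s * g.1 = 0
      rw [hg1, hs]; ring
    rw [h1, hsnd] at hmem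
    obtain ⟨t, ht⟩ := hmem
    refine ⟨s, t, Prod.ext ?_ ?_⟩
    · show x.1 = s * g.1 + t * 0
      rw [hg1, hs]; ring
    · show x.2 = s * g.2 + t * P w
      linear_combination ht
  have hperp : ∀ y : R × R, y ∈ perp X ↔ (P w * y.1 = 0 ∧ P v * y.2 = g.2 * y.1) := by
    intro y
    rw [mem_perp]
    constructor
    · intro h
      have h1 := h g hgX
      have h2 := h _ h0w
      simp only [det, hg1, zero_mul, zero_sub, neg_eq_zero] at h1 h2
      exact ⟨h2, by linear_combination h1⟩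
    · rintro ⟨h1, h2⟩ x hx
      obtain ⟨s, t, rfl⟩ := hdec x hx
      rw [det_add_left, det_smul_left, det_smul_left]
      simp only [det, hg1, zero_mul, zero_sub]
      linear_combination s * h2 - t * h1
  have hP : ∀ s t, P s * P t = P (s + t) := fun s t => by
    simp only [hPdef, pow_add, Nat.cast_mul]
  -- the extra divisibility
  have hc : ∀ m : R, P w * m = 0 → P v ∣ g.2 * m := by
    intro m hm
    have hgc : ((0 : R), P (n - v) * g.2) ∈ X := by
      have h := smul_mem' X (P (n - v)) hgX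
      have : P (n - v) • g = ((0 : R), P (n - v) * g.2) := by
        refine Prod.ext ?_ rfl
        show P (n - v) * g.1 = 0
        rw [hg1, hP, Nat.sub_add_cancel hv]
        exact ZMod.natCast_self _
      rwa [this] at h
    rw [hsnd, hPdef, show g.2 = ((g.2.val : ℕ) : R) from (ZMod.natCast_zmod_val _).symm,
      ← Nat.cast_mul, natCast_dvd_natCast_iff hw] at hgc
    rw [hPdef, show m = ((m.val : ℕ) : R) from (ZMod.natCast_zmod_val _).symm,
      ← Nat.cast_mul, ZMod.natCast_eq_zero_iff] at hm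
    rw [hPdef, show g.2 = ((g.2.val : ℕ) : R) from (ZMod.natCast_zmod_val _).symm,
      show m = ((m.val : ℕ) : R) from (ZMod.natCast_zmod_val _).symm, ← Nat.cast_mul,
      natCast_dvd_natCast_iff hv]
    have h3 : p ^ (n - v) * p ^ v = p ^ n := by rw [← pow_add, Nat.sub_add_cancel hv]
    have h4 := Nat.mul_dvd_mul hgc (dvd_refl (p ^ v * m.val))
    have h6 : p ^ n * p ^ v ∣ p ^ n * (g.2.val * m.val) :=
      calc p ^ n * p ^ v ∣ (p ^ w * m.val) * p ^ v := Nat.mul_dvd_mul_right hm _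
        _ = p ^ w * (p ^ v * m.val) := by ring
        _ ∣ p ^ (n - v) * g.2.val * (p ^ v * m.val) := h4
        _ = (p ^ (n - v) * p ^ v) * (g.2.val * m.val) := by ring
        _ = p ^ n * (g.2.val * m.val) := congrArg (· * _) h3
    exact Nat.dvd_of_mul_dvd_mul_left (pow_pos hp.out.pos n) h6
  have hcard : Nat.card X = p ^ (n - v) * p ^ (n - w) := by
    rw [card_eq, hA, hB, card_zmultiples hv, card_zmultiples hw]
  refine ⟨v, w, hv, hw, hcard, ?_, ?_, ?_⟩
  · rw [card_eq, show (perp X).map (AddMonoidHom.fst R R) = (AddMonoidHom.mulLeft (P w)).ker from ?_,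
      show (perp X).comap (AddMonoidHom.inr R R) = (AddMonoidHom.mulLeft (P v)).ker from ?_,
      card_torsion hw, card_torsion hv]
    · ext l
      simp [hperp, AddMonoidHom.mem_ker]
    · ext m
      simp only [AddSubgroup.mem_map, AddMonoidHom.mem_ker, AddMonoidHom.coe_mulLeft]
      constructor
      · rintro ⟨y, hy, rfl⟩
        exact ((hperp y).1 hy).1
      · intro hm
        obtain ⟨l, hl⟩ := hc m hm
        exact ⟨(m, l), (hperp _).2 ⟨hm, hl.symm⟩, rfl⟩
  · constructor
    · intro h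
      have := ((hperp _).1 (h h0w)).2
      rw [mul_zero, hP] at this
      exact (Nat.pow_dvd_pow_iff_le_right hp.out.one_lt).1 ((ZMod.natCast_eq_zero_iff _ _).1 this)
    · intro h x hx
      have hvw : P v * P w = 0 := by
        rw [hP]
        exact (ZMod.natCast_eq_zero_iff _ _).2 (pow_dvd_pow p h)
      obtain ⟨s, t, rfl⟩ := hdec x hx
      rw [hperp]
      constructor
      · show P w * (s * g.1 + t * 0) = 0
        rw [hg1]; linear_combination s * hvw
      · show P v * (s * g.2 + t * P w) = g.2 * (s * g.1 + t * 0)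
        rw [hg1]; linear_combination t * hvw
  · intro hvw x
    have e : n - 1 = (n - 1 - v - w) + w + v := by omega
    have h1 := smul_mem' X (x.1 * P (n - 1 - v)) hgX
    have h2 := smul_mem' X (x.2 * P (n - 1 - w) - x.1 * P (n - 1 - v - w) * g.2) h0w
    have := add_mem h1 h2
    convert this using 1
    refine Prod.ext ?_ ?_
    · show P (n - 1) * x.1 = x.1 * P (n - 1 - v) * g.1 + _ * 0
      rw [hg1, mul_assoc, hP, Nat.sub_add_cancel (show v ≤ n - 1 by omega)]
      ring
    · show P (n - 1) * x.2 = x.1 * P (n - 1 - v) * g.2 +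
        (x.2 * P (n - 1 - w) - x.1 * P (n - 1 - v - w) * g.2) * P w
      have e1 : P (n - 1 - v - w) * P w = P (n - 1 - v) := by
        rw [hP, Nat.sub_add_cancel (show w ≤ n - 1 - v by omega)]
      have e2 : P (n - 1 - w) * P w = P (n - 1) := by
        rw [hP, Nat.sub_add_cancel (show w ≤ n - 1 by omega)]
      linear_combination x.1 * g.2 * e1 - x.2 * e2

theorem card_mul_card_perp (X : AddSubgroup (R × R)) :
    Nat.card X * Nat.card (perp X) = p ^ (2 * n) := by
  obtain ⟨v, w, hv, hw, h1, h2, -⟩ := exists_shape X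
  rw [h1, h2, ← pow_add, ← pow_add, ← pow_add]
  congr 1
  omega

theorem le_perp_iff (X : AddSubgroup (R × R)) : X ≤ perp X ↔ Nat.card X ≤ p ^ n := by
  obtain ⟨v, w, hv, hw, h1, -, h3, -⟩ := exists_shape X
  rw [h3, h1, ← pow_add, Nat.pow_le_pow_iff_right hp.out.one_lt]
  omega

theorem smul_mem_of_not_le_perp (X : AddSubgroup (R × R)) (h : ¬ X ≤ perp X) (x : R × R) :
    ((p ^ (n - 1) : ℕ) : R) • x ∈ X := by
  obtain ⟨v, w, hv, hw, -, -, h3, h4⟩ := exists_shape X
  exact h4 (by rw [h3] at h; omega) x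

theorem perp_perp (X : AddSubgroup (R × R)) : perp (perp X) = X := by
  haveI : NeZero (p ^ n) := ⟨pow_ne_zero _ hp.out.ne_zero⟩
  refine (AddSubgroup.eq_of_le_of_card_ge ((le_perp_comm _ _).2 le_rfl) ?_).symm
  have h1 := card_mul_card_perp X
  have h2 := card_mul_card_perp (perp X)
  rw [← h1, mul_comm (Nat.card X)] at h2
  exact (Nat.eq_of_mul_eq_mul_left Nat.card_pos h2).le

theorem perp_le_of_not_le_perp (X : AddSubgroup (R × R)) (h : ¬ X ≤ perp X) : perp X ≤ X := by
  rw [le_perp_iff] at h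
  have h1 := card_mul_card_perp X
  have h2 : Nat.card (perp X) ≤ p ^ n := by
    by_contra hc
    have := Nat.mul_lt_mul'' (not_le.1 h) (not_le.1 hc)
    rw [h1, ← pow_add, ← two_mul] at this
    exact lt_irrefl _ this
  have := (le_perp_iff (perp X)).2 h2
  rwa [perp_perp] at this

end Cfsg.Agent.MetaOdd
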