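import Cfsg.Prelude.Def_OddOrderLocal
import Cfsg.Agent.Lib.MetacyclicOdd.Arith
import Cfsg.Agent.Lib.MetacyclicOdd.Plane

/-!
Coordinates on a metacyclic `p`-group, `p` odd: a crossed homomorphism `σ : G → (ℤ / p ^ n) ^ 2`,
`p ^ n = |G'|`, whose fibre over `0` is the centre and under which commuting means vanishing
determinant.
-/

set_option autoImplicit false
set_option linter.style.haveILetI false

namespace Cfsg.Agent.MetaOdd

open Subgroup
open scoped commutatorElement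

/-- A coordinate system. -/
structure Coord (G : Type*) [Group G] (p : ℕ) where
  n : ℕ
  σ : G → ZMod (p ^ n) × ZMod (p ^ n)
  u : G → ℤ
  a : G
  b : G
  u_one : ∀ h, (p : ℤ) ∣ u h - 1
  map_mul : ∀ g h, σ (g * h) = (u h : ZMod (p ^ n)) • σ g + σ h
  eq_zero_iff : ∀ g, σ g = 0 ↔ g ∈ center G
  det_iff : ∀ g h, det (σ g) (σ h) = 0 ↔ g * h = h * g
  σa : σ a = (1, 0)
  σb : σ b = (0, 1)
  ua : (u a : ZMod (p ^ n)) = 1
  repr : ∀ g, ∃ i j : ℕ, g = b ^ j * a ^ i
  card_comm : Nat.card (commutator G) = p ^ n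

variable {G : Type*} [Group G] [Finite G] {p : ℕ} [hp : Fact p.Prime]

theorem exists_gens (hmc : Cfsg.IsMetacyclic G) : ∃ a b : G, (zpowers a).Normal ∧
    ∀ g, ∃ i j : ℕ, g = b ^ j * a ^ i := by
  obtain ⟨N, hN, hNc, hQ⟩ := hmc
  obtain ⟨a, ha⟩ := (N.isCyclic_iff_exists_zpowers_eq_top).1 hNc
  obtain ⟨q, hq⟩ := hQ.exists_generator
  obtain ⟨b, rfl⟩ := QuotientGroup.mk'_surjective N q
  refine ⟨a, b, ha ▸ hN, fun g => ?_⟩
  obtain ⟨j, hj⟩ := (mem_powers_iff_mem_zpowers).2 (hq (QuotientGroup.mk' N g))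
  have hmem : (b ^ j)⁻¹ * g ∈ N := by
    rw [← QuotientGroup.eq, QuotientGroup.mk_pow]
    exact hj
  rw [← ha] at hmem
  obtain ⟨i, hi⟩ := (mem_powers_iff_mem_zpowers).2 hmem
  exact ⟨i, j, by rw [show a ^ i = (b ^ j)⁻¹ * g from hi, mul_inv_cancel_left]⟩

theorem exists_coord (hG : IsPGroup p G) (hmc : Cfsg.IsMetacyclic G) : Nonempty (Coord G p) := by
  classical
  obtain ⟨a, b, hAn, hrepr⟩ := exists_gens hmc
  set c := a⁻¹ * b⁻¹ * a * b with hc
  set C := zpowers c with hC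
  obtain ⟨n, hn⟩ := IsPGroup.iff_orderOf.1 hG c
  have hcA : c ∈ zpowers a := by
    have := mul_mem (inv_mem (mem_zpowers a)) (hAn.conj_mem a (mem_zpowers a) b⁻¹)
    rwa [inv_inv, show a⁻¹ * (b⁻¹ * a * b) = c by rw [hc]; group] at this
  have hac : a * c = c * a := by
    obtain ⟨k, hk⟩ := hcA
    rw [← hk]
    exact ((Commute.refl a).zpow_right k).eq
  have hnorm : ∀ g : G, ∀ s ∈ C, g * s * g⁻¹ ∈ C := by
    have hgen : ∀ h : G, h * c * h⁻¹ ∈ C → h ∈ normalizer (C : Set G) := by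
      intro h hh
      rw [mem_normalizer_iff_map_conj_eq]
      apply eq_of_le_of_card_ge
      · rw [hC, MonoidHom.map_zpowers, zpowers_le]
        exact hh
      · exact (card_map_of_injective (MulEquiv.injective _)).ge
    have hb : b⁻¹ ∈ normalizer (C : Set G) := by
      apply hgen
      obtain ⟨k, hk⟩ := hAn.conj_mem a (mem_zpowers a) b⁻¹
      simp only [inv_inv] at hk ⊢
      have h1 : b⁻¹ * c * b = (b⁻¹ * a * b)⁻¹ * (b⁻¹ * (b⁻¹ * a * b) * b) := by rw [hc]; group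
      have h2 : b⁻¹ * a * b = a * c := by rw [hc]; group
      have h3 : b⁻¹ * c * b = c ^ k := by
        calc b⁻¹ * c * b = b⁻¹ * a⁻¹ * b * (b⁻¹ * (b⁻¹ * a * b) * b) := by rw [hc]; group
          _ = (a ^ k)⁻¹ * (b⁻¹ * a ^ k * b) := by rw [hk]; group
          _ = (a ^ k)⁻¹ * (b⁻¹ * a * b) ^ k := by
              rw [show b⁻¹ * a * b = MulAut.conj b⁻¹ a by simp, ← map_zpow]; simp
          _ = c ^ k := by
              rw [h2, Commute.mul_zpow hac, inv_mul_cancel_left]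
      rw [h3]
      exact zpow_mem (mem_zpowers c) k
    have ha' : a ∈ normalizer (C : Set G) := hgen a (by rw [hac, mul_inv_cancel_right]; exact mem_zpowers c)
    intro g s hs
    obtain ⟨i, j, rfl⟩ := hrepr g
    exact (mem_normalizer_iff.1 (mul_mem (pow_mem ((inv_mem_iff).1 hb) j) (pow_mem ha' i)) s).1 hs
  haveI hCn : C.Normal := ⟨fun s hs g => hnorm g s hs⟩
  -- commutators lie in `C`
  let D : G → G → G := fun g h => g⁻¹ * h⁻¹ * g * h
  have hD : ∀ g h, D g h ∈ C := by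
    intro g h
    let π := QuotientGroup.mk' C
    have hab : Commute (π a) (π b) := by
      have : π c = 1 := (QuotientGroup.eq_one_iff c).2 (mem_zpowers c)
      rw [hc, map_mul, map_mul, map_mul, map_inv, map_inv] at this
      calc π a * π b = (π b * π a) * ((π a)⁻¹ * (π b)⁻¹ * π a * π b) := by group
        _ = π b * π a := by rw [this, mul_one]
    obtain ⟨i, j, rfl⟩ := hrepr g
    obtain ⟨i', j', rfl⟩ := hrepr h
    rw [← QuotientGroup.eq_one_iff]
    show π ((b ^ j * a ^ i)⁻¹ * (b ^ j' * a ^ i')⁻¹ * (b ^ j * a ^ i) * (b ^ j' * a ^ i')) = 1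
    simp only [map_mul, map_inv, map_pow]
    have key : Commute (π b ^ j * π a ^ i) (π b ^ j' * π a ^ i') :=
      Commute.mul_left (Commute.mul_right (Commute.pow_pow_self _ _ _) (hab.symm.pow_pow _ _))
        (Commute.mul_right (hab.pow_pow _ _) (Commute.pow_pow_self _ _ _))
    rw [mul_assoc, key.eq]
    group
  -- discrete logarithm
  let lg : G → ZMod (p ^ n) := fun s =>
    if hs : s ∈ C then ((Classical.choose (mem_zpowers_iff.1 hs) : ℤ) : ZMod (p ^ n)) else 0
  have hlg : ∀ i : ℤ, lg (c ^ i) = (i : ZMod (p ^ n)) := by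
    intro i
    have hs : c ^ i ∈ C := zpow_mem (mem_zpowers c) i
    simp only [lg, dif_pos hs]
    rw [ZMod.intCast_eq_intCast_iff, ← hn]
    exact zpow_eq_zpow_iff_modEq.1 (Classical.choose_spec (mem_zpowers_iff.1 hs))
  have hlg_mul : ∀ s ∈ C, ∀ t ∈ C, lg (s * t) = lg s + lg t := by
    rintro _ ⟨i, rfl⟩ _ ⟨k, rfl⟩
    simp only [← zpow_add, hlg, Int.cast_add]
  have hlg0 : ∀ s ∈ C, lg s = 0 ↔ s = 1 := by
    rintro _ ⟨i, rfl⟩
    simp only [hlg, ZMod.intCast_zmod_eq_zero_iff_dvd, ← hn, orderOf_dvd_iff_zpow_eq_one]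
  have hlg1 : lg 1 = 0 := (hlg0 1 (one_mem C)).2 rfl
  -- the action on `C`
  have hu : ∀ h : G, ∃ u : ℤ, (p : ℤ) ∣ u - 1 ∧ h⁻¹ * c * h = c ^ u := by
    intro h
    rcases Nat.eq_zero_or_pos n with h0 | hpos
    · refine ⟨1, by simp, ?_⟩
      rw [h0, pow_zero, orderOf_eq_one_iff] at hn
      simp [hn]
    obtain ⟨u, hu⟩ : h⁻¹ * c * h ∈ C := by
      simpa using hnorm h⁻¹ c (mem_zpowers c)
    refine ⟨u, ?_, hu.symm⟩
    simp only at hu
    obtain ⟨m, hm⟩ := IsPGroup.iff_orderOf.1 hG h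
    have hiter : ∀ k : ℕ, (h ^ k)⁻¹ * c * h ^ k = c ^ (u ^ k) := by
      intro k
      induction k with
      | zero => simp
      | succ k ih =>
        calc (h ^ (k + 1))⁻¹ * c * h ^ (k + 1) = MulAut.conj h⁻¹ ((h ^ k)⁻¹ * c * h ^ k) := by
              simp [pow_succ, mul_assoc]
          _ = c ^ (u ^ (k + 1)) := by
              rw [ih, map_zpow, MulAut.conj_apply, inv_inv, ← hu, ← zpow_mul, pow_succ']
    have h1 := hiter (p ^ m)
    rw [show h ^ p ^ m = 1 by rw [← hm]; exact pow_orderOf_eq_one h, inv_one, one_mul, mul_one] at h1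
    have h2 : (1 : ℤ) ≡ u ^ p ^ m [ZMOD (p : ℤ)] := by
      have := zpow_eq_zpow_iff_modEq.1 (((zpow_one c).trans h1))
      rw [hn] at this
      exact this.of_dvd (by exact_mod_cast dvd_pow_self p hpos.ne')
    rw [← ZMod.intCast_eq_intCast_iff, Int.cast_one, Int.cast_pow, ZMod.pow_card_pow] at h2
    rw [← ZMod.intCast_zmod_eq_zero_iff_dvd, Int.cast_sub, ← h2, Int.cast_one, sub_self]
  choose u hu1 hu2 using hu
  have hlg_conj : ∀ (h : G), ∀ s ∈ C, lg (h⁻¹ * s * h) = (u h : ZMod (p ^ n)) * lg s := by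
    rintro h _ ⟨i, rfl⟩
    have : h⁻¹ * c ^ i * h = c ^ (u h * i) := by
      rw [zpow_mul, ← hu2, show h⁻¹ * c * h = MulAut.conj h⁻¹ c by simp, ← map_zpow]
      simp
    simp only [this, hlg, Int.cast_mul]
  have hconjC : ∀ h : G, ∀ s ∈ C, h⁻¹ * s * h ∈ C := fun h s hs => by
    simpa using hnorm h⁻¹ s hs
  -- the cocycle identities
  have hD1 : ∀ g g' h, lg (D (g * g') h) = (u g' : ZMod (p ^ n)) * lg (D g h) + lg (D g' h) := by
    intro g g' h
    rw [← hlg_conj g' _ (hD g h), ← hlg_mul _ (hconjC g' _ (hD g h)) _ (hD g' h)]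
    congr 1
    simp only [D]; group
  have hD2 : ∀ g h h', lg (D g (h * h')) = lg (D g h') + (u h' : ZMod (p ^ n)) * lg (D g h) := by
    intro g h h'
    rw [← hlg_conj h' _ (hD g h), ← hlg_mul _ (hD g h') _ (hconjC h' _ (hD g h))]
    congr 1
    simp only [D]; group
  have hswap : ∀ g h, lg (D h g) = - lg (D g h) := by
    intro g h
    rw [eq_neg_iff_add_eq_zero, ← hlg_mul _ (hD h g) _ (hD g h), show D h g * D g h = 1 by
      simp only [D]; group, hlg1]
  have hself : ∀ g, lg (D g g) = 0 := fun g => by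
    rw [show D g g = 1 by simp only [D]; group, hlg1]
  let σ : G → ZMod (p ^ n) × ZMod (p ^ n) := fun g => (lg (D g b), lg (D a g))
  have hσmul : ∀ g h, σ (g * h) = (u h : ZMod (p ^ n)) • σ g + σ h := by
    intro g h
    refine Prod.ext ?_ ?_
    · show lg (D (g * h) b) = (u h : ZMod (p ^ n)) * lg (D g b) + lg (D h b)
      exact hD1 g h b
    · show lg (D a (g * h)) = (u h : ZMod (p ^ n)) * lg (D a g) + lg (D a h)
      rw [hD2, add_comm]
  have hcD : D a b = c := rfl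
  have hlgc : lg c = 1 := by simpa using hlg 1
  have hσa : σ a = (1, 0) := Prod.ext (show lg (D a b) = 1 by rw [hcD, hlgc]) (hself a)
  have hσb : σ b = (0, 1) := Prod.ext (hself b) (show lg (D a b) = 1 by rw [hcD, hlgc])
  have hdet : ∀ g h, det (σ g) (σ h) = lg (D g h) := by
    intro g h
    let E : Submonoid G :=
      { carrier := {g | det (σ g) (σ h) = lg (D g h)}
        one_mem' := by
          show det (σ 1) (σ h) = lg (D 1 h)
          have hd : ∀ k, D 1 k = 1 := fun k => by simp only [D]; group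
          have hd' : D a 1 = 1 := by simp only [D]; group
          simp only [det, σ, hd, hd', hlg1, zero_mul, sub_self]
        mul_mem' := fun {g g'} hg hg' => by
          show det (σ (g * g')) (σ h) = lg (D (g * g') h)
          rw [hσmul, det_add_left, det_smul_left, hg, hg', hD1] }
    obtain ⟨i, j, rfl⟩ := hrepr g
    refine E.mul_mem (E.pow_mem ?_ j) (E.pow_mem ?_ i)
    · show det (σ b) (σ h) = lg (D b h)
      rw [hσb, hswap h b]
      simp [det, σ]
    · show det (σ a) (σ h) = lg (D a h)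
      rw [hσa]
      simp [det, σ]
  have hDeq : ∀ g h, D g h = 1 ↔ g * h = h * g := fun g h => by
    rw [show D g h = (h * g)⁻¹ * (g * h) by simp only [D]; group, inv_mul_eq_one, eq_comm]
  have hdet_iff : ∀ g h, det (σ g) (σ h) = 0 ↔ g * h = h * g := fun g h => by
    rw [hdet, hlg0 _ (hD g h), hDeq]
  refine ⟨⟨n, σ, u, a, b, hu1, hσmul, fun g => ?_, hdet_iff, hσa, hσb, ?_, hrepr, ?_⟩⟩
  · constructor
    · intro hg
      rw [mem_center_iff]
      intro k
      refine ((hdet_iff g k).1 ?_).symm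
      rw [hg]; simp [det]
    · intro hg
      have h1 : D g b = 1 := (hDeq _ _).2 (mem_center_iff.1 hg b).symm
      have h2 : D a g = 1 := (hDeq _ _).2 (mem_center_iff.1 hg a)
      simp only [σ, h1, h2, hlg1]
      rfl
  · have h1 := hlg_conj a c (mem_zpowers c)
    rw [hlgc, mul_one, show a⁻¹ * c * a = c by rw [mul_assoc, ← hac, inv_mul_cancel_left], hlgc] at h1
    exact h1.symm
  · have : commutator G = C := by
      refine le_antisymm ?_ ?_
      · rw [_root_.commutator_def, commutator_le]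
        intro g _ h _
        have := hD g⁻¹ h⁻¹
        simpa [D, commutatorElement_def] using this
      · rw [hC, zpowers_le, _root_.commutator_def]
        have := commutator_mem_commutator (mem_top a⁻¹) (mem_top b⁻¹)
        simpa [hc, commutatorElement_def] using this
    rw [this, hC, Nat.card_zpowers, hn]

namespace Coord

variable (K : Coord G p)
include K

theorem isUnit_u (g : G) : IsUnit (K.u g : ZMod (p ^ K.n)) := by
  obtain ⟨q, hq⟩ := K.u_one g
  have hc : IsCoprime (K.u g) ((p : ℤ) ^ K.n) := by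
    refine IsCoprime.pow_right ⟨1, -q, ?_⟩
    linear_combination hq
  obtain ⟨s, t, hst⟩ := hc
  refine IsUnit.of_mul_eq_one (s : ZMod (p ^ K.n)) ?_
  have := congrArg (Int.cast : ℤ → ZMod (p ^ K.n)) hst
  rw [show ((p : ℤ) ^ K.n) = ((p ^ K.n : ℕ) : ℤ) by push_cast; rfl] at this
  push_cast at this
  rw [show ((p : ZMod (p ^ K.n))) ^ K.n = 0 by rw [← Nat.cast_pow]; exact ZMod.natCast_self _,
    mul_zero, add_zero] at this
  rw [mul_comm]; exact this

theorem σ_one : K.σ 1 = 0 := (K.eq_zero_iff 1).2 (one_mem _)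

theorem σ_pow (g : G) (m : ℕ) : K.σ (g ^ m) = (geom (K.u g) m : ZMod (p ^ K.n)) • K.σ g := by
  induction m with
  | zero => simp [σ_one, geom]
  | succ m ih =>
    rw [pow_succ, K.map_mul, ih, geom_succ, smul_smul]
    push_cast
    rw [add_smul, one_smul]

/-- Every multiple of `σ g` is taken on a power of `g`. -/
theorem exists_pow_smul (hp2 : p ≠ 2) (g : G) (t : ZMod (p ^ K.n)) :
    ∃ m : ℕ, K.σ (g ^ m) = t • K.σ g := by
  haveI : NeZero (p ^ K.n) := ⟨pow_ne_zero _ hp.out.ne_zero⟩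
  suffices h : Function.Surjective (fun m : ZMod (p ^ K.n) => (geom (K.u g) m.val : ZMod (p ^ K.n))) by
    obtain ⟨m, hm⟩ := h t
    exact ⟨m.val, by rw [σ_pow, ← hm]⟩
  apply Finite.surjective_of_injective
  intro x y hxy
  dsimp only at hxy
  wlog hle : x.val ≤ y.val generalizing x y
  · exact (this hxy.symm (le_of_not_ge hle)).symm
  obtain ⟨d, hd⟩ := Nat.exists_eq_add_of_le hle
  rw [hd, geom_add, Int.cast_add, Int.cast_mul, left_eq_add, Int.cast_pow,
    ((K.isUnit_u g).pow _).mul_right_eq_zero, ZMod.intCast_zmod_eq_zero_iff_dvd, Nat.cast_pow,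
    dvd_geom_iff hp2 _ (K.u_one g)] at hxy
  apply ZMod.val_injective
  have h1 := y.val_lt
  rcases Nat.eq_zero_or_pos d with h0 | hpos
  · omega
  · have := Nat.le_of_dvd hpos hxy
    omega

/-- The image of a subgroup. -/
noncomputable def img (hp2 : p ≠ 2) (L : Subgroup G) : AddSubgroup (ZMod (p ^ K.n) × ZMod (p ^ K.n)) where
  carrier := {v | ∃ g ∈ L, K.σ g = v}
  zero_mem' := ⟨1, one_mem L, K.σ_one⟩
  add_mem' := by
    rintro _ _ ⟨g, hg, rfl⟩ ⟨h, hh, rfl⟩
    obtain ⟨m, hm⟩ := K.exists_pow_smul hp2 g ((K.isUnit_u h).unit⁻¹ : (ZMod (p ^ K.n))ˣ)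
    refine ⟨g ^ m * h, mul_mem (pow_mem hg m) hh, ?_⟩
    rw [K.map_mul, hm, smul_smul, IsUnit.mul_val_inv, one_smul]
  neg_mem' := by
    rintro _ ⟨g, hg, rfl⟩
    obtain ⟨m, hm⟩ := K.exists_pow_smul hp2 g (-1)
    exact ⟨g ^ m, pow_mem hg m, by rw [hm, neg_one_smul]⟩

theorem mem_img {hp2 : p ≠ 2} {L : Subgroup G} {g : G} (hg : g ∈ L) : K.σ g ∈ K.img hp2 L :=
  ⟨g, hg, rfl⟩

/-- The subgroup above a subgroup of the plane. -/
def pre (X : AddSubgroup (ZMod (p ^ K.n) × ZMod (p ^ K.n))) : Subgroup G where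
  carrier := {g | K.σ g ∈ X}
  one_mem' := by show K.σ 1 ∈ X; rw [σ_one]; exact zero_mem X
  mul_mem' := fun {g h} hg hh => by
    show K.σ (g * h) ∈ X
    rw [K.map_mul]
    exact add_mem (smul_mem' X _ hg) hh
  inv_mem' := fun {g} hg => by
    show K.σ g⁻¹ ∈ X
    obtain ⟨m, hm⟩ := (mem_powers_iff_mem_zpowers).2 (inv_mem (mem_zpowers g))
    rw [← show g ^ m = g⁻¹ from hm, σ_pow]
    exact smul_mem' X _ hg

theorem mem_pre {X : AddSubgroup (ZMod (p ^ K.n) × ZMod (p ^ K.n))} {g : G} :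
    g ∈ K.pre X ↔ K.σ g ∈ X := Iff.rfl

theorem center_le_pre (X : AddSubgroup (ZMod (p ^ K.n) × ZMod (p ^ K.n))) : center G ≤ K.pre X :=
  fun g hg => by rw [mem_pre, (K.eq_zero_iff g).2 hg]; exact zero_mem X

theorem σ_eq_iff (g h : G) : K.σ g = K.σ h ↔ g * h⁻¹ ∈ center G := by
  rw [← K.eq_zero_iff]
  have := K.map_mul (g * h⁻¹) h
  rw [inv_mul_cancel_right] at this
  rw [this, add_eq_right]
  exact ⟨fun e => (K.isUnit_u h).smul_eq_zero.1 e, fun e => by rw [e, smul_zero]⟩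

theorem card_eq_mul (hp2 : p ≠ 2) (L : Subgroup G) :
    Nat.card L = Nat.card ↥(L ⊓ center G : Subgroup G) * Nat.card (K.img hp2 L) := by
  set Z' := (center G).subgroupOf L
  haveI : Z'.Normal := inferInstance
  let f : L ⧸ Z' → K.img hp2 L := Quotient.lift (fun g => ⟨K.σ g, K.mem_img g.2⟩) (by
    intro g h hgh
    have h1 : g⁻¹ * h ∈ Z' := QuotientGroup.leftRel_apply.1 hgh
    apply Subtype.ext
    show K.σ g = K.σ h
    symm
    rw [K.σ_eq_iff]
    exact (inferInstance : Z'.Normal).mem_comm h1)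
  have hf : Function.Bijective f := by
    constructor
    · rintro ⟨g⟩ ⟨h⟩ e
      refine Quotient.sound (QuotientGroup.leftRel_apply.2 ?_)
      exact (inferInstance : Z'.Normal).mem_comm ((K.σ_eq_iff _ _).1 (congrArg Subtype.val e).symm :)
    · rintro ⟨_, g, hg, rfl⟩
      exact ⟨QuotientGroup.mk ⟨g, hg⟩, rfl⟩
  rw [← Nat.card_congr (Equiv.ofBijective f hf), ← Z'.card_mul_index]
  congr 1
  rw [show Z' = (L ⊓ center G).subgroupOf L from (inf_subgroupOf_left _ _).symm]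
  exact Nat.card_congr (subgroupOfEquivOfLe inf_le_left).toEquiv

theorem img_top (hp2 : p ≠ 2) : K.img hp2 ⊤ = ⊤ := by
  rw [eq_top_iff]
  rintro ⟨x, y⟩ -
  have h := add_mem (smul_mem' _ x (K.mem_img (hp2 := hp2) (mem_top K.a)))
    (smul_mem' _ y (K.mem_img (hp2 := hp2) (mem_top K.b)))
  rw [K.σa, K.σb] at h
  simpa using h

theorem card_plane : Nat.card (ZMod (p ^ K.n) × ZMod (p ^ K.n)) = p ^ (2 * K.n) := by
  rw [Nat.card_prod, Nat.card_zmod, ← pow_add, two_mul]

theorem card_group (hp2 : p ≠ 2) : Nat.card G = Nat.card (center G) * p ^ (2 * K.n) := by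
  have h := K.card_eq_mul hp2 ⊤
  rwa [K.img_top hp2, AddSubgroup.card_top, card_plane, top_inf_eq, card_top] at h

theorem index_center (hp2 : p ≠ 2) : (center G).index = p ^ (2 * K.n) :=
  Nat.eq_of_mul_eq_mul_left Nat.card_pos ((center G).card_mul_index.trans (K.card_group hp2))

theorem index_commutator (hp2 : p ≠ 2) :
    (commutator G).index = Nat.card (center G) * p ^ K.n := by
  apply Nat.eq_of_mul_eq_mul_left (pow_pos hp.out.pos K.n)
  conv_lhs => rw [← K.card_comm, card_mul_index, K.card_group hp2]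
  ring

theorem pre_img (hp2 : p ≠ 2) (L : Subgroup G) (hZ : center G ≤ L) : K.pre (K.img hp2 L) = L := by
  refine le_antisymm (fun g hg => ?_) fun g hg => K.mem_img (hp2 := hp2) hg
  obtain ⟨h, hh, he⟩ := hg
  have := mul_mem (hZ ((K.σ_eq_iff _ _).1 he.symm)) hh
  rwa [inv_mul_cancel_right] at this

theorem img_pre (hp2 : p ≠ 2) (X : AddSubgroup (ZMod (p ^ K.n) × ZMod (p ^ K.n))) :
    K.img hp2 (K.pre X) = X := by
  refine le_antisymm (by rintro _ ⟨g, hg, rfl⟩; exact hg) fun v hv => ?_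
  have : v ∈ K.img hp2 ⊤ := by rw [img_top]; exact AddSubgroup.mem_top v
  obtain ⟨g, -, rfl⟩ := this
  exact K.mem_img hv

theorem card_pre (hp2 : p ≠ 2) (X : AddSubgroup (ZMod (p ^ K.n) × ZMod (p ^ K.n))) :
    Nat.card (K.pre X) = Nat.card (center G) * Nat.card X := by
  rw [K.card_eq_mul hp2, img_pre, inf_eq_right.2 (K.center_le_pre X)]

theorem centralizer_eq (hp2 : p ≠ 2) (L : Subgroup G) :
    centralizer (L : Set G) = K.pre (perp (K.img hp2 L)) := by
  ext g
  rw [mem_centralizer_iff, mem_pre, mem_perp]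
  constructor
  · rintro h _ ⟨l, hl, rfl⟩
    exact (K.det_iff l g).2 (h l hl)
  · intro h l hl
    exact (K.det_iff l g).1 (h _ (K.mem_img hl))

theorem isMulCommutative_iff (hp2 : p ≠ 2) (L : Subgroup G) :
    IsMulCommutative L ↔ K.img hp2 L ≤ perp (K.img hp2 L) := by
  constructor
  · rintro h _ ⟨g, hg, rfl⟩ _ ⟨k, hk, rfl⟩
    exact (K.det_iff k g).2 (congrArg Subtype.val (h.is_comm.comm ⟨k, hk⟩ ⟨g, hg⟩))
  · intro h
    exact ⟨⟨fun g k => Subtype.ext ((K.det_iff g k).1 (h (K.mem_img k.2) _ (K.mem_img g.2)))⟩⟩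

/-- The subgroup generated by the `p ^ s`-th powers. -/
theorem mem_closure_pow_iff (hp2 : p ≠ 2) {s : ℕ} (hs : s ≤ K.n) (g : G) :
    g ∈ closure {x : G | ∃ y : G, y ^ p ^ s = x} ↔ ∃ v, ((p ^ s : ℕ) : ZMod (p ^ K.n)) • v = K.σ g := by
  haveI : NeZero (p ^ K.n) := ⟨pow_ne_zero _ hp.out.ne_zero⟩
  constructor
  · intro hg
    have : closure {x : G | ∃ y : G, y ^ p ^ s = x} ≤
        K.pre ((⊤ : AddSubgroup (ZMod (p ^ K.n) × ZMod (p ^ K.n))).map
          (DistribSMul.toAddMonoidHom _ ((p ^ s : ℕ) : ZMod (p ^ K.n)))) := by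
      rw [closure_le]
      rintro _ ⟨y, rfl⟩
      obtain ⟨q, hq⟩ : (p : ℤ) ^ s ∣ geom (K.u y) (p ^ s) := (dvd_geom_iff hp2 s (K.u_one y) _).2 dvd_rfl
      refine ⟨(q : ZMod (p ^ K.n)) • K.σ y, trivial, ?_⟩
      show ((p ^ s : ℕ) : ZMod (p ^ K.n)) • ((q : ZMod (p ^ K.n)) • K.σ y) = K.σ (y ^ p ^ s)
      rw [σ_pow, hq, smul_smul]
      push_cast
      ring_nf
    obtain ⟨v, -, hv⟩ := this hg
    exact ⟨v, hv⟩
  · rintro ⟨v, hv⟩
    obtain ⟨i, j, rfl⟩ := K.repr g
    have hai : K.σ (K.a ^ i) = ((i : ZMod (p ^ K.n)), 0) := by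
      rw [σ_pow, K.σa]
      simp [geom, K.ua]
    have hu1 : ∀ m : ℕ, (K.u (K.a ^ m) : ZMod (p ^ K.n)) • K.σ K.b = K.σ K.b := by
      intro m
      induction m with
      | zero =>
        have := K.map_mul K.b 1
        rw [mul_one, σ_one, add_zero] at this
        rw [pow_zero]; exact this.symm
      | succ m ih =>
        have h1 := K.map_mul K.b (K.a ^ (m + 1))
        have h2 := K.map_mul (K.b * K.a ^ m) K.a
        rw [mul_assoc, ← pow_succ, K.map_mul K.b (K.a ^ m), smul_add, K.ua, one_smul, one_smul, ih,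
          h1, pow_succ, K.map_mul (K.a ^ m) K.a, K.ua, one_smul, add_assoc] at h2
        rw [pow_succ]
        exact add_right_cancel h2
    rw [K.map_mul, K.σ_pow K.b, smul_comm, hu1, hai, K.σb] at hv
    have h1 : ((p ^ s : ℕ) : ZMod (p ^ K.n)) ∣ (i : ZMod (p ^ K.n)) :=
      ⟨v.1, by simpa using (congrArg Prod.fst hv).symm⟩
    have h2 : ((p ^ s : ℕ) : ZMod (p ^ K.n)) ∣ (geom (K.u K.b) j : ZMod (p ^ K.n)) :=
      ⟨v.2, by simpa using (congrArg Prod.snd hv).symm⟩
    rw [natCast_dvd_natCast_iff hs] at h1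
    have h3 : p ^ s ∣ j := by
      refine (dvd_geom_iff hp2 s (K.u_one K.b) j).1 ?_
      obtain ⟨q, hq⟩ := h2
      rw [show (q : ZMod (p ^ K.n)) = ((q.val : ℤ) : ZMod (p ^ K.n)) by simp [ZMod.natCast_zmod_val],
        show ((p ^ s : ℕ) : ZMod (p ^ K.n)) = ((p ^ s : ℤ) : ZMod (p ^ K.n)) by push_cast; rfl,
        ← Int.cast_mul, ZMod.intCast_eq_intCast_iff_dvd_sub] at hq
      have hd : (p : ℤ) ^ s ∣ ((p ^ K.n : ℕ) : ℤ) := by push_cast; exact pow_dvd_pow _ hs
      have := dvd_sub (dvd_mul_right ((p : ℤ) ^ s) (q.val : ℤ)) (hd.trans hq)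
      simpa using this
    obtain ⟨i', rfl⟩ := h1
    obtain ⟨j', rfl⟩ := h3
    refine mul_mem (subset_closure ⟨K.b ^ j', ?_⟩) (subset_closure ⟨K.a ^ i', ?_⟩) <;>
      rw [← pow_mul, mul_comm]

theorem center_eq_closure (hp2 : p ≠ 2) :
    closure {x : G | ∃ y : G, y ^ p ^ K.n = x} = center G := by
  ext g
  rw [K.mem_closure_pow_iff hp2 le_rfl, ← K.eq_zero_iff, ZMod.natCast_self]
  simp [eq_comm]

/-- A non-abelian subgroup contains the centre. -/
theorem center_le_of_not_comm (hp2 : p ≠ 2) (hG : IsPGroup p G) (L : Subgroup G)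
    (hL : ¬ IsMulCommutative L) : center G ≤ L := by
  rw [K.isMulCommutative_iff hp2] at hL
  have hn1 : 1 ≤ K.n := by
    by_contra h0
    refine hL fun x _ y _ => ?_
    have : Subsingleton (ZMod (p ^ K.n)) := by rw [show K.n = 0 by omega, pow_zero]; infer_instance
    exact Subsingleton.elim _ _
  let S : Subgroup G :=
    { carrier := {z | z ∈ center G ∧ ∃ l ∈ L, l ∈ center G ∧ ∃ w ∈ center G, z = l * w ^ p}
      one_mem' := ⟨one_mem _, 1, one_mem _, one_mem _, 1, one_mem _, by simp⟩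
      mul_mem' := by
        rintro x y ⟨hx, l, hl, hlz, w, hw, rfl⟩ ⟨hy, l', hl', hlz', w', hw', rfl⟩
        refine ⟨mul_mem hx hy, l * l', mul_mem hl hl', mul_mem hlz hlz', w * w', mul_mem hw hw', ?_⟩
        have hc : Commute w w' := (mem_center_iff.1 hw w').symm
        rw [hc.mul_pow, mul_assoc l, ← mul_assoc (w ^ p) l', mem_center_iff.1 hlz' (w ^ p)]
        group
      inv_mem' := by
        rintro x ⟨hx, l, hl, hlz, w, hw, rfl⟩
        refine ⟨inv_mem hx, l⁻¹, inv_mem hl, inv_mem hlz, w⁻¹, inv_mem hw, ?_⟩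
        rw [mul_inv_rev, inv_pow, mem_center_iff.1 (inv_mem hlz) (w ^ p)⁻¹] }
  have hS : center G ≤ S := by
    rw [← K.center_eq_closure hp2, closure_le]
    rintro _ ⟨h, rfl⟩
    have hcl : h ^ p ^ (K.n - 1) ∈ closure {x : G | ∃ y : G, y ^ p ^ (K.n - 1) = x} :=
      subset_closure ⟨h, rfl⟩
    obtain ⟨v, hv⟩ := (K.mem_closure_pow_iff hp2 (Nat.sub_le _ _) _).1 hcl
    have hmem := smul_mem_of_not_le_perp _ hL v
    rw [hv] at hmem
    obtain ⟨l, hl, hle⟩ := hmem
    have hw := (K.σ_eq_iff _ _).1 hle.symm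
    set w := h ^ p ^ (K.n - 1) * l⁻¹ with hwdef
    have hz : h ^ p ^ K.n ∈ center G := by
      rw [← K.center_eq_closure hp2]; exact subset_closure ⟨h, rfl⟩
    have heq : h ^ p ^ K.n = l ^ p * w ^ p := by
      have : h ^ p ^ (K.n - 1) = l * w := by
        rw [mem_center_iff.1 hw l, hwdef, inv_mul_cancel_right]
      rw [show h ^ p ^ K.n = (h ^ p ^ (K.n - 1)) ^ p by
        rw [← pow_mul, ← pow_succ, Nat.sub_add_cancel hn1], this,
        (Commute.mul_pow (show Commute l w from mem_center_iff.1 hw l))]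
    refine ⟨hz, l ^ p, pow_mem hl p, ?_, w, hw, heq⟩
    have := mul_mem hz (inv_mem (pow_mem hw p))
    rwa [heq, mul_inv_cancel_right] at this
  have hk : ∀ k : ℕ, ∀ z ∈ center G, ∃ l ∈ L, ∃ w ∈ center G, z = l * w ^ p ^ k := by
    intro k
    induction k with
    | zero => exact fun z hz => ⟨1, one_mem _, z, hz, by simp⟩
    | succ k ih =>
      intro z hz
      obtain ⟨l, hl, w, hw, rfl⟩ := ih z hz
      obtain ⟨-, l', hl', hlz', w', hw', rfl⟩ := hS hw
      refine ⟨l * l' ^ p ^ k, mul_mem hl (pow_mem hl' _), w', hw', ?_⟩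
      rw [Commute.mul_pow (show Commute l' (w' ^ p) from (mem_center_iff.1 hlz' _).symm), mul_assoc,
        ← pow_mul, pow_succ']
  obtain ⟨m, hm⟩ := IsPGroup.iff_card.1 hG
  intro z hz
  obtain ⟨l, hl, w, -, rfl⟩ := hk m z hz
  rw [← hm, pow_card_eq_one', mul_one]
  exact hl

theorem isMulCommutative_iff_card (hp2 : p ≠ 2) (hG : IsPGroup p G) (L : Subgroup G) :
    IsMulCommutative L ↔ Nat.card L ≤ (commutator G).index := by
  rw [K.index_commutator hp2]
  constructor
  · intro h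
    rw [K.isMulCommutative_iff hp2, le_perp_iff] at h
    rw [K.card_eq_mul hp2 L]
    exact Nat.mul_le_mul (card_le_of_le inf_le_right) h
  · intro h
    by_contra hna
    have hZ := K.center_le_of_not_comm hp2 hG L hna
    rw [K.card_eq_mul hp2 L, inf_eq_right.2 hZ] at h
    exact hna ((K.isMulCommutative_iff hp2 L).2 ((le_perp_iff _).2 (Nat.le_of_mul_le_mul_left h Nat.card_pos)))

theorem maximal_iff_card (hp2 : p ≠ 2) (hG : IsPGroup p G) (L : Subgroup G) :
    Maximal (fun H : Subgroup G => IsMulCommutative ↥H) L ↔ Nat.card L = (commutator G).index := by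
  constructor
  · intro h
    by_contra hne
    have hlt : Nat.card L < (commutator G).index :=
      lt_of_le_of_ne ((K.isMulCommutative_iff_card hp2 hG L).1 h.prop) hne
    obtain ⟨k, hk⟩ := IsPGroup.iff_card.1 (hG.to_subgroup L)
    obtain ⟨m, hm⟩ := hG.index (commutator G)
    rw [hk, hm] at hlt
    have hkm : k ≤ m := ((Nat.pow_lt_pow_iff_right hp.out.one_lt).1 hlt).le
    obtain ⟨H, hH, hLH⟩ := Sylow.exists_subgroup_card_pow_prime_le p
      (hm ▸ (commutator G).index_dvd_card) L hk hkm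
    have hHc : IsMulCommutative H := (K.isMulCommutative_iff_card hp2 hG H).2 (by rw [hH, hm])
    have hcard := card_le_of_le (h.le_of_ge hHc hLH)
    rw [hH, hk] at hcard
    omega
  · intro h
    refine ⟨(K.isMulCommutative_iff_card hp2 hG L).2 h.le, fun H hH hLH => ?_⟩
    exact (eq_of_le_of_card_ge hLH (h ▸ (K.isMulCommutative_iff_card hp2 hG H).1 hH)).ge

theorem index_centralizer (hp2 : p ≠ 2) (g : G) :
    (centralizer ({g} : Set G)).index = addOrderOf (K.σ g) := by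
  haveI : NeZero (p ^ K.n) := ⟨pow_ne_zero _ hp.out.ne_zero⟩
  have hC : centralizer ({g} : Set G) = centralizer ((zpowers g : Subgroup G) : Set G) := by
    rw [zpowers_eq_closure, centralizer_closure]
  have himg : K.img hp2 (zpowers g) = AddSubgroup.zmultiples (K.σ g) := by
    refine le_antisymm ?_ (AddSubgroup.zmultiples_le_of_mem (K.mem_img (mem_zpowers g)))
    rintro _ ⟨h, hh, rfl⟩
    obtain ⟨m, rfl⟩ := (mem_powers_iff_mem_zpowers).2 hh
    simp only [σ_pow, Int.cast_smul_eq_zsmul]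
    exact AddSubgroup.zsmul_mem _ (AddSubgroup.mem_zmultiples _) _
  rw [hC, K.centralizer_eq hp2, himg]
  set X := AddSubgroup.zmultiples (K.σ g)
  apply Nat.eq_of_mul_eq_mul_left (Nat.card_pos (α := K.pre (perp X)))
  rw [card_mul_index, K.card_group hp2, K.card_pre hp2, ← card_mul_card_perp X, Nat.card_zmultiples]
  ring

theorem card_fibre (P : ZMod (p ^ K.n) × ZMod (p ^ K.n) → Prop) (hp2 : p ≠ 2) :
    Nat.card {g : G // P (K.σ g)} = Nat.card (center G) * Nat.card {v // P v} := by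
  have hsurj : ∀ v, ∃ g, K.σ g = v := fun v => by
    have : v ∈ K.img hp2 ⊤ := by rw [img_top]; exact AddSubgroup.mem_top v
    obtain ⟨g, -, h⟩ := this
    exact ⟨g, h⟩
  choose r hr using hsurj
  have hz : ∀ (z : center G) v, K.σ ((z : G) * r v) = v := fun z v => by
    rw [K.map_mul, (K.eq_zero_iff _).2 z.2, smul_zero, zero_add, hr]
  rw [← Nat.card_prod]
  exact Nat.card_congr
    { toFun := fun g => (⟨g.1 * (r (K.σ g.1))⁻¹, (K.σ_eq_iff _ _).1 (hr _).symm⟩, ⟨K.σ g.1, g.2⟩)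
      invFun := fun zv => ⟨(zv.1 : G) * r zv.2, by rw [hz]; exact zv.2.2⟩
      left_inv := fun g => Subtype.ext (inv_mul_cancel_right _ _)
      right_inv := fun zv => Prod.ext
        (Subtype.ext (by simp only [hz, mul_inv_cancel_right]))
        (Subtype.ext (hz _ _)) }

end Coord

end Cfsg.Agent.MetaOdd
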